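import Cfsg.Agent.Lib.Recog.FiTwoMult.Moves
import Mathlib.Algebra.Group.Basic
import Mathlib.Tactic.Group

/-!
Checked rewriting for lifts of the last eight letters of the diagram of Fi22: the squares are a central
element (owner: helper18).
-/

set_option autoImplicit false

namespace CfsgLib.Recog.O73Mult

open CfsgLib.Recog.FiTwoMult (adj move moves push reduceBy)

/-- One of the last eight letters. -/
def Letter (x : ℕ) : Prop := 1 ≤ x ∧ x ≤ 8

instance (x : ℕ) : Decidable (Letter x) := inferInstanceAs (Decidable (_ ∧ _))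

/-- The relations of the diagram on the last eight letters, with squares a central element. -/
structure CoxOn {M : Type*} [Group M] (f : ℕ → M) (z : M) : Prop where
  sq : ∀ x, Letter x → f x * f x = z
  cen : ∀ y, y * z = z * y
  braid : ∀ x y, Letter x → Letter y → adj x y = true → f x * (f y * f x) = f y * (f x * f y)
  comm : ∀ x y, Letter x → Letter y → adj x y = false → f x * f y = f y * f x

variable {M : Type*} [Group M] {f : ℕ → M} {z : M}

theorem move_on (hf : CoxOn f z) : ∀ (R : List ℕ) (i : ℕ) (R' : List ℕ), move R i = some R' →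
    (∀ x ∈ R, Letter x) → (∀ x ∈ R', Letter x) ∧ R'.length = R.length ∧ (R'.map f).prod = (R.map f).prod
  | [], i, R', h, _ => by simp [move] at h
  | [x], 0, R', h, _ => by simp [move] at h
  | [a, b], 0, R', h, hR => by
    simp only [move] at h
    split_ifs at h with hadj
    obtain rfl := Option.some.inj h
    have ha : Letter a := hR a (by simp)
    have hb : Letter b := hR b (by simp)
    refine ⟨fun x hx => hR x (by simp at hx ⊢; tauto), rfl, ?_⟩
    simp only [List.map_cons, List.prod_cons, List.map_nil, List.prod_nil, mul_one]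
    rw [hf.comm a b ha hb (Bool.eq_false_iff.2 hadj)]
  | a :: b :: c :: r, 0, R', h, hR => by
    have ha : Letter a := hR a (by simp)
    have hb : Letter b := hR b (by simp)
    simp only [move] at h
    split_ifs at h with hadj hac
    · obtain rfl := Option.some.inj h
      obtain rfl := Nat.eq_of_beq_eq_true hac
      refine ⟨fun x hx => hR x (by simp at hx ⊢; tauto), rfl, ?_⟩
      simp only [List.map_cons, List.prod_cons, ← mul_assoc]
      rw [mul_assoc (f b) (f a) (f b), ← hf.braid a b ha hb hadj, ← mul_assoc]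
    · obtain rfl := Option.some.inj h
      refine ⟨fun x hx => hR x (by simp at hx ⊢; tauto), rfl, ?_⟩
      simp only [List.map_cons, List.prod_cons, ← mul_assoc]
      rw [hf.comm a b ha hb (Bool.eq_false_iff.2 hadj)]
  | x :: r, i + 1, R', h, hR => by
    have h' : (move r i).map (x :: ·) = some R' := by
      rw [← h]
      rcases r with _ | ⟨b, _ | ⟨c, r⟩⟩ <;> simp only [move]
    rw [Option.map_eq_some_iff] at h'
    obtain ⟨r', hr', rfl⟩ := h'
    obtain ⟨h1, h2, h3⟩ := move_on hf r i r' hr' fun y hy => hR y (List.mem_cons_of_mem _ hy)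
    exact ⟨List.forall_mem_cons.2 ⟨hR x (by simp), h1⟩, by simp [h2], by simp [h3]⟩

theorem moves_on (hf : CoxOn f z) : ∀ (m R R' : List ℕ), moves R m = some R' →
    (∀ x ∈ R, Letter x) → (∀ x ∈ R', Letter x) ∧ R'.length = R.length ∧ (R'.map f).prod = (R.map f).prod
  | [], R, R', h, hR => by
    rw [moves, Option.some.injEq] at h
    subst h
    exact ⟨hR, rfl, rfl⟩
  | i :: is, R, R', h, hR => by
    rw [moves, Option.bind_eq_some_iff] at h
    obtain ⟨R₁, h₁, h₂⟩ := h
    obtain ⟨a1, a2, a3⟩ := move_on hf R i R₁ h₁ hR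
    obtain ⟨b1, b2, b3⟩ := moves_on hf is R₁ R' h₂ a1
    exact ⟨b1, b2.trans a2, b3.trans a3⟩

theorem reduce_on (hf : CoxOn f z) : ∀ (w : List ℕ) (ms : List (List ℕ)) (R : List ℕ), reduceBy w ms = some R →
    (∀ x ∈ w, Letter x) →
      (∀ x ∈ R, Letter x) ∧ ∃ k, w.length = R.length + 2 * k ∧ (w.map f).prod = z ^ k * (R.map f).prod
  | [], ms, R, h, _ => by
    obtain rfl : R = [] := by
      cases ms <;> simpa [reduceBy, eq_comm] using h
    exact ⟨by simp, 0, rfl, by simp⟩
  | s :: w, [], R, h, _ => by simp [reduceBy] at h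
  | s :: w, m :: ms, R, h, hw => by
    rw [reduceBy, Option.bind_eq_some_iff] at h
    obtain ⟨R₀, h₀, h₁⟩ := h
    rw [Option.map_eq_some_iff] at h₁
    obtain ⟨R₁, h₁, rfl⟩ := h₁
    have hs : Letter s := hw s (by simp)
    obtain ⟨hR₀, k, hk, hp⟩ := reduce_on hf w ms R₀ h₀ fun x hx => hw x (List.mem_cons_of_mem _ hx)
    obtain ⟨hR₁, hlen, hprod⟩ := moves_on hf m R₀ R₁ h₁ hR₀
    have hzc : ∀ y, y * z ^ k = z ^ k * y := fun y => ((show Commute y z from hf.cen y).pow_right k).eq
    rw [List.map_cons, List.prod_cons, List.length_cons, hp, ← hprod, hk, ← hlen, ← mul_assoc, hzc, mul_assoc]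
    cases R₁ with
    | nil =>
      refine ⟨fun x hx => ?_, k, by simp [push]; omega, by simp [push]⟩
      simp [push] at hx
      exact hx ▸ hs
    | cons t r =>
      simp only [push]
      split_ifs with hst
      · obtain rfl := Nat.eq_of_beq_eq_true hst
        refine ⟨fun x hx => hR₁ x (List.mem_cons_of_mem _ hx), k + 1, by simp; omega, ?_⟩
        rw [List.map_cons, List.prod_cons, ← mul_assoc (f s), hf.sq s hs, pow_succ, mul_assoc]
      · exact ⟨List.forall_mem_cons.2 ⟨hs, hR₁⟩, k, by simp; omega, by simp⟩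

/-- A word reducing to the empty one is a power of the square. -/
theorem prod_eq_pow (hf : CoxOn f z) {w : List ℕ} {ms : List (List ℕ)} (h : (reduceBy w ms == some []) = true)
    (hw : ∀ x ∈ w, Letter x) (k : ℕ) (hk : w.length = 2 * k) : (w.map f).prod = z ^ k := by
  obtain ⟨-, j, hj, hp⟩ := reduce_on hf w ms [] (beq_iff_eq.1 h) hw
  obtain rfl : j = k := by simp at hj; omega
  simpa using hp

end CfsgLib.Recog.O73Mult
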