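import Cfsg.Agent.Lib.Recog.O73Mult.Data
import Cfsg.Agent.Lib.Recog.O73Mult.Rewrite
import Cfsg.Agent.Lib.Recog.O73Mult.Cover
import Cfsg.Agent.Lib.Recog.FiTwoMult.Data
import Cfsg.Agent.Lib.Recog.FiThree.Mult.Data
import Mathlib.GroupTheory.Commutator.Basic
import Mathlib.Tactic.IntervalCases

/-!
The kernel of a stem extension of Ω(7, 3) is cyclic of order dividing six (owner: helper18).

Lifts of the eight generators can be chosen braided.  Then all commuting pairs have the same commutator, an
involution, modulo which the lifts can be scaled so that only the spider word remains, with cube one.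
-/

set_option autoImplicit false
set_option maxRecDepth 20000

namespace CfsgLib.Recog.O73Mult

open Cfsg CfsgLib.ThreeTrans.CosetIndex
open CfsgLib.Recog.SporBound (relWord_one gen_of gen_inv)
open CfsgLib.Recog.SporBound.Fi22Eight (edges7 extra7 P7 nodes7 hom_exists)
open CfsgLib.Recog.FiTwoMult (adj reduceBy certZ)
open CfsgLib.Recog.FiThree.Mult (conC conD certC)
open Cfsg.Agent.S1687 (gens)
open scoped commutatorElement

/-- The spider. -/
def spider7 : List ℕ := (List.replicate 10 [3, 2, 1, 3, 4, 5, 3, 7, 8]).flatten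

/-- The relator of E₇ type. -/
def seven7 : List ℕ := (List.replicate 9 [1, 2, 3, 4, 5, 6, 7]).flatten

/-- The pair of a relator. -/
def pairWd (x y : ℕ) : List ℕ :=
  if Nat.beq x y then [x, x] else if adj x y then [x, y, x, y, x, y] else [x, y, x, y]

theorem pair_rel : ((List.range' 1 8).all fun x => (List.range' 1 8).all fun y =>
    Nat.beq x y || (relWords edges7 extra7 gens).contains (pairWd x y)) = true := by decide +kernel

theorem rel_shape : ((relWords edges7 extra7 gens).all fun w =>
    (fun v : List ℕ => v.isEmpty || v == spider7 || v == seven7 ||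
      (List.range' 1 8).any fun x => (List.range' 1 8).any fun y => v == pairWd x y || v == [x, x] ||
        v == [x]  && Nat.beq x 0) (w.filter fun x => x != 0)) = true := by decide +kernel

theorem extra_mem : (relWords edges7 extra7 gens).contains spider7 = true ∧
    (relWords edges7 extra7 gens).contains seven7 = true := by decide +kernel

theorem cube_red7 : (reduceBy (spider7 ++ (conC ++ spider7 ++ conC.reverse) ++ (conD ++ spider7 ++ conD.reverse)) certC
    == some []) = true := by decide +kernel

theorem square_red7 : (reduceBy (seven7 ++ seven7) certZ == some []) = true := by decide +kernel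

theorem letters_ok : (∀ x ∈ spider7 ++ (conC ++ spider7 ++ conC.reverse) ++ (conD ++ spider7 ++ conD.reverse),
      Letter x) ∧ (∀ x ∈ seven7 ++ seven7, Letter x) ∧ (∀ x ∈ conC ++ conD, Letter x) := by
  decide +kernel

/-- One step of the closure of the pairs. -/
def addPair (K : List (ℕ × ℕ)) (s : ℕ × ℕ × ℕ) : List (ℕ × ℕ) :=
  if K.contains (s.1, s.2.2) && adj s.1 s.2.1 && !adj s.1 s.2.2 && !adj s.2.1 s.2.2 && !Nat.beq s.2.1 s.2.2 &&
      decide (Letter s.1) && decide (Letter s.2.1) && decide (Letter s.2.2) then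
    (s.2.1, s.2.2) :: (s.2.2, s.2.1) :: K
  else K

theorem pairs_cover : ((List.range' 1 8).all fun x => (List.range' 1 8).all fun y => Nat.beq x y || adj x y ||
    (pairSteps.foldl addPair [(1, 3), (3, 1)]).contains (x, y)) = true := by decide +kernel

theorem mem_range_letter {x : ℕ} : x ∈ List.range' 1 8 ↔ Letter x := by
  rw [List.mem_range'_1, Letter]; omega

theorem g7_sq (x : ℕ) : g7 x * g7 x = 1 := gen_inv nodes7 x

theorem g7_pair {x y : ℕ} (hx : Letter x) (hy : Letter y) (h : x ≠ y) : ((pairWd x y).map g7).prod = 1 := by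
  have e := List.all_eq_true.1 (List.all_eq_true.1 pair_rel x (mem_range_letter.2 hx)) y (mem_range_letter.2 hy)
  rw [show Nat.beq x y = false from Bool.eq_false_iff.2 fun e => h (Nat.eq_of_beq_eq_true e), Bool.false_or] at e
  exact relWord_one nodes7 (List.contains_iff_mem.1 e)

theorem adj_irrefl {x y : ℕ} (h : adj x y = true) : x ≠ y := by
  simp only [adj, List.any_cons, List.any_nil, Bool.or_false, Bool.or_eq_true, Bool.and_eq_true, Nat.beq_eq] at h
  omega

theorem adj_comm (x y : ℕ) : adj x y = adj y x := by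
  simp only [adj, List.any_cons, List.any_nil, Bool.or_false]
  ac_rfl

theorem g7_braid {x y : ℕ} (hx : Letter x) (hy : Letter y) (h : adj x y = true) :
    g7 x * g7 y * g7 x * (g7 x * g7 y)⁻¹ = g7 y := by
  have hne := adj_irrefl h
  have e := g7_pair hx hy hne
  rw [pairWd, show Nat.beq x y = false from Bool.eq_false_iff.2 fun e => hne (Nat.eq_of_beq_eq_true e), if_pos h] at e
  simp only [Bool.false_eq_true, if_false, List.map_cons, List.map_nil, List.prod_cons, List.prod_nil, mul_one] at e
  rw [mul_inv_rev, inv_eq_of_mul_eq_one_right (g7_sq x), inv_eq_of_mul_eq_one_right (g7_sq y)]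
  calc g7 x * g7 y * g7 x * (g7 y * g7 x)
      = g7 x * (g7 y * (g7 x * (g7 y * (g7 x * g7 y)))) * g7 y := by
        simp only [mul_assoc, g7_sq, mul_one]
    _ = g7 y := by rw [e, one_mul]

theorem g7_comm {x y : ℕ} (hx : Letter x) (hy : Letter y) (h : adj x y = false) : g7 x * g7 y = g7 y * g7 x := by
  by_cases hne : x = y
  · rw [hne]
  have e := g7_pair hx hy hne
  rw [pairWd, show Nat.beq x y = false from Bool.eq_false_iff.2 fun e => hne (Nat.eq_of_beq_eq_true e),
    h] at e
  simp only [Bool.false_eq_true, if_false, List.map_cons, List.map_nil, List.prod_cons, List.prod_nil, mul_one] at e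
  calc g7 x * g7 y = g7 x * (g7 y * (g7 x * g7 y)) * (g7 y * g7 x) := by
        simp only [mul_assoc, ← mul_assoc (g7 y) (g7 y), g7_sq, one_mul, mul_one]
    _ = g7 y * g7 x := by rw [e, one_mul]

theorem prod_map_filter {M : Type*} [Monoid M] (f : ℕ → M) (h0 : f 0 = 1) (w : List ℕ) :
    ((w.filter fun x => x != 0).map f).prod = (w.map f).prod := by
  induction w with
  | nil => rfl
  | cons x w ih =>
    by_cases hx : x = 0
    · subst hx; simp [h0] at ih ⊢; exact ih
    · simp [hx] at ih ⊢; rw [ih]

theorem prod_mul_central {M : Type*} [Group M] (f : ℕ → M) (ζ : M) (hζ : ∀ y, y * ζ = ζ * y) (f' : ℕ → M) :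
    ∀ w : List ℕ, (∀ x ∈ w, f' x = f x * ζ) → (w.map f').prod = (w.map f).prod * ζ ^ w.length
  | [], _ => by simp
  | x :: w, h => by
    rw [List.map_cons, List.prod_cons, prod_mul_central f ζ hζ f' w fun y hy => h y (List.mem_cons_of_mem _ hy),
      h x (by simp), List.map_cons, List.prod_cons, List.length_cons, pow_succ']
    calc f x * ζ * ((w.map f).prod * ζ ^ w.length) = f x * (ζ * (w.map f).prod) * ζ ^ w.length := by group
      _ = _ := by rw [← hζ]; group

theorem reverse_of_coxOn {M : Type*} [Group M] {f : ℕ → M} (hf : CoxOn f 1) :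
    ∀ w : List ℕ, (∀ x ∈ w, Letter x) → (w.reverse.map f).prod = ((w.map f).prod)⁻¹
  | [], _ => by simp
  | x :: w, h => by
    rw [List.reverse_cons, List.map_append, List.prod_append,
      reverse_of_coxOn hf w fun y hy => h y (List.mem_cons_of_mem _ hy), List.map_singleton, List.prod_singleton,
      List.map_cons, List.prod_cons, mul_inv_rev, inv_eq_of_mul_eq_one_right (hf.sq x (h x (by simp)))]

section Ext

variable {E : Type*} [Group E] (σ : E →* P7) (hs : Function.Surjective σ) (hk : σ.ker ≤ Subgroup.center E)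

/-- The braided conjugate. -/
def braidConj (x y : E) : E := x * y * x * (x * y)⁻¹

include hk in
theorem cen {x : E} (hx : σ x = 1) (y : E) : y * x = x * y :=
  Subgroup.mem_center_iff.1 (hk (MonoidHom.mem_ker.2 hx)) y

theorem braidConj_map {x y : E} {p q : ℕ} (hp : Letter p) (hq : Letter q) (h : adj p q = true) (hx : σ x = g7 p)
    (hy : σ y = g7 q) : σ (braidConj x y) = g7 q := by
  simp only [braidConj, map_mul, map_inv, hx, hy]
  exact g7_braid hp hq h

include hk in
theorem braidConj_eq {x y y' : E} (hy : σ y = σ y') : braidConj x y = braidConj x y' := by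
  have h1 : σ (y'⁻¹ * y) = 1 := by rw [map_mul, map_inv, hy, inv_mul_cancel]
  have h2 := cen σ hk h1 x
  unfold braidConj
  calc x * y * x * (x * y)⁻¹ = x * y' * (y'⁻¹ * y * x) * (y'⁻¹ * y)⁻¹ * (x * y')⁻¹ := by group
    _ = x * y' * (x * (y'⁻¹ * y)) * (y'⁻¹ * y)⁻¹ * (x * y')⁻¹ := by rw [h2]
    _ = _ := by group

include hs hk in
theorem exists_braided : ∃ (c : ℕ → E) (z : E), σ z = 1 ∧ (∀ x, Letter x → σ (c x) = g7 x ∧ c x * c x = z) ∧
    ∀ x y, Letter x → Letter y → adj x y = true → c x * (c y * c x) = c y * (c x * c y) := by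
  let L : ℕ → E := fun x => Function.surjInv hs (g7 x)
  have hL : ∀ x, σ (L x) = g7 x := fun x => Function.surjInv_eq hs _
  let c2 := braidConj (L 3) (L 2)
  let c1 := braidConj c2 (L 1)
  let c4 := braidConj (L 3) (L 4)
  let c5 := braidConj c4 (L 5)
  let c6 := braidConj c5 (L 6)
  let c7 := braidConj (L 3) (L 7)
  let c8 := braidConj c7 (L 8)
  let c : ℕ → E := fun x => match x with
    | 1 => c1 | 2 => c2 | 3 => L 3 | 4 => c4 | 5 => c5 | 6 => c6 | 7 => c7 | 8 => c8 | _ => 1
  set z := L 3 * L 3 with hz
  have hz1 : σ z = 1 := by rw [hz, map_mul, hL, g7_sq]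
  have m2 : σ c2 = g7 2 := braidConj_map σ (by decide) (by decide) (by decide) (hL 3) (hL 2)
  have m1 : σ c1 = g7 1 := braidConj_map σ (by decide) (by decide) (by decide) m2 (hL 1)
  have m4 : σ c4 = g7 4 := braidConj_map σ (by decide) (by decide) (by decide) (hL 3) (hL 4)
  have m5 : σ c5 = g7 5 := braidConj_map σ (by decide) (by decide) (by decide) m4 (hL 5)
  have m6 : σ c6 = g7 6 := braidConj_map σ (by decide) (by decide) (by decide) m5 (hL 6)
  have m7 : σ c7 = g7 7 := braidConj_map σ (by decide) (by decide) (by decide) (hL 3) (hL 7)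
  have m8 : σ c8 = g7 8 := braidConj_map σ (by decide) (by decide) (by decide) m7 (hL 8)
  have sqc : ∀ {x y : E}, x * x = z → braidConj x y * braidConj x y = z := fun {x y} h => by
    calc braidConj x y * braidConj x y = x * y * (x * x) * (x * y)⁻¹ := by unfold braidConj; group
      _ = z := by rw [h, cen σ hk hz1, mul_inv_cancel_right]
  have br : ∀ {x y : E}, σ (braidConj x y) = σ y →
      x * (braidConj x y * x) = braidConj x y * (x * braidConj x y) := fun {x y} h => by
    have e := (braidConj_eq σ hk (x := x) h.symm).symm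
    calc x * (braidConj x y * x) = braidConj x (braidConj x y) * (x * braidConj x y) := by unfold braidConj; group
      _ = _ := by rw [e]
  refine ⟨c, z, hz1, fun x hx => ?_, fun x y hx hy h => ?_⟩
  · obtain ⟨h1, h8⟩ := hx
    interval_cases x
    exacts [⟨m1, sqc (sqc rfl)⟩, ⟨m2, sqc rfl⟩, ⟨hL 3, rfl⟩, ⟨m4, sqc rfl⟩, ⟨m5, sqc (sqc rfl)⟩,
      ⟨m6, sqc (sqc (sqc rfl))⟩, ⟨m7, sqc rfl⟩, ⟨m8, sqc (sqc rfl)⟩]
  · have b32 := br (x := L 3) (y := L 2) (m2.trans (hL 2).symm)
    have b21 := br (x := c2) (y := L 1) (m1.trans (hL 1).symm)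
    have b34 := br (x := L 3) (y := L 4) (m4.trans (hL 4).symm)
    have b45 := br (x := c4) (y := L 5) (m5.trans (hL 5).symm)
    have b56 := br (x := c5) (y := L 6) (m6.trans (hL 6).symm)
    have b37 := br (x := L 3) (y := L 7) (m7.trans (hL 7).symm)
    have b78 := br (x := c7) (y := L 8) (m8.trans (hL 8).symm)
    simp only [adj, List.any_cons, List.any_nil, Bool.or_false, Bool.or_eq_true, Bool.and_eq_true, Nat.beq_eq] at h
    obtain ⟨h1, h8⟩ := hx
    obtain ⟨k1, k8⟩ := hy
    rcases h with ((h | h) | (h | h) | (h | h) | (h | h) | (h | h) | (h | h) | (h | h) | (h | h)) <;>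
      obtain ⟨rfl, rfl⟩ := h <;> first
        | omega
        | exact b32 | exact b32.symm | exact b21 | exact b21.symm | exact b34 | exact b34.symm
        | exact b45 | exact b45.symm | exact b56 | exact b56.symm | exact b37 | exact b37.symm
        | exact b78 | exact b78.symm

include hk in
theorem exists_sign {c : ℕ → E} {z : E} (hz : σ z = 1) (hc : ∀ x, Letter x → σ (c x) = g7 x ∧ c x * c x = z)
    (hb : ∀ x y, Letter x → Letter y → adj x y = true → c x * (c y * c x) = c y * (c x * c y)) :
    ∃ u : E, σ u = 1 ∧ u * u = 1 ∧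
      ∀ x y, Letter x → Letter y → x ≠ y → adj x y = false → c x * c y = u * (c y * c x) := by
  obtain ⟨P, hP⟩ : ∃ P : ℕ → ℕ → E, ∀ x y, P x y = c x * c y * (c y * c x)⁻¹ := ⟨_, fun _ _ => rfl⟩
  have hP1 : ∀ x y, Letter x → Letter y → adj x y = false → σ (P x y) = 1 := fun x y hx hy h => by
    simp only [hP, map_mul, map_inv, (hc x hx).1, (hc y hy).1]
    rw [g7_comm hx hy h, mul_inv_cancel]
  have hPe : ∀ x y, c x * c y = P x y * (c y * c x) := fun x y => by rw [hP]; group
  have hP2 : ∀ x y, Letter x → Letter y → adj x y = false → P x y * P x y = 1 := fun x y hx hy h => by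
    have hp := cen σ hk (hP1 x y hx hy h)
    have e : z * c x = P x y * P x y * (z * c x) := by
      calc z * c x = c x * (c y * c y) := by rw [(hc y hy).2, cen σ hk hz]
        _ = P x y * (c y * (c x * c y)) := by
          rw [← mul_assoc (c x)]
          conv_lhs => rw [hPe x y]
          simp only [mul_assoc]
        _ = P x y * (c y * (P x y * (c y * c x))) := by rw [hPe x y]
        _ = P x y * P x y * (c y * c y * c x) := by
          rw [← mul_assoc (c y) (P x y), hp (c y)]
          simp only [mul_assoc]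
        _ = _ := by rw [(hc y hy).2]
    exact mul_right_cancel (b := z * c x) (by rw [one_mul]; exact e.symm)
  have hsym : ∀ x y, Letter x → Letter y → adj x y = false → P y x = P x y := fun x y hx hy h => by
    calc P y x = (P x y)⁻¹ := by rw [hP, hP]; group
      _ = _ := inv_eq_of_mul_eq_one_right (hP2 x y hx hy h)
  have hstep : ∀ x x' y, Letter x → Letter x' → Letter y → adj x x' = true → adj x y = false → adj x' y = false →
      P x' y = P x y := fun x x' y hx hx' hy ha h h' => by
    have e1 : c x' = c x * c x' * c x * (c x * c x')⁻¹ := by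
      calc c x' = c x' * (c x * c x') * (c x * c x')⁻¹ := by group
        _ = c x * (c x' * c x) * (c x * c x')⁻¹ := by rw [hb x x' hx hx' ha]
        _ = _ := by group
    have hl := cen σ hk (hP1 x y hx hy h)
    have hm := cen σ hk (hP1 x' y hx' hy h')
    have hPl := hPe x y
    have hPm := hPe x' y
    generalize P x y = lam at hl hPl ⊢
    generalize P x' y = mu at hm hPm ⊢
    have hml : ∀ a, a * (mu * lam) = mu * lam * a := fun a =>
      (Commute.mul_right (hm a : Commute a mu) (hl a : Commute a lam)).eq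
    have e2 : c x * c x' * c y = mu * lam * c y * (c x * c x') := by
      calc c x * c x' * c y = c x * (mu * (c y * c x')) := by rw [mul_assoc, hPm]
        _ = c x * mu * (c y * c x') := (mul_assoc _ _ _).symm
        _ = mu * (c x * c y * c x') := by rw [hm]; simp only [mul_assoc]
        _ = _ := by rw [hPl]; simp only [mul_assoc]
    have e2' : c x * c x' * c y * (c x * c x')⁻¹ = mu * lam * c y := by rw [e2, mul_inv_cancel_right]
    have e3 : c x' * (mu * lam * c y) = lam * (mu * lam * c y * c x') := by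
      calc c x' * (mu * lam * c y)
          = c x * c x' * c x * (c x * c x')⁻¹ * (c x * c x' * c y * (c x * c x')⁻¹) := by rw [e2', ← e1]
        _ = c x * c x' * (c x * c y) * (c x * c x')⁻¹ := by group
        _ = c x * c x' * lam * (c y * c x) * (c x * c x')⁻¹ := by rw [hPl]; group
        _ = lam * (c x * c x') * (c y * c x) * (c x * c x')⁻¹ := by rw [hl]
        _ = lam * (c x * c x' * c y * (c x * c x')⁻¹ * (c x * c x' * c x * (c x * c x')⁻¹)) := by group
        _ = _ := by rw [e2', ← e1]
    have e4 : mu * lam * (mu * (c y * c x')) = mu * lam * (lam * (c y * c x')) := by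
      calc mu * lam * (mu * (c y * c x')) = mu * lam * (c x' * c y) := by rw [hPm]
        _ = c x' * (mu * lam) * c y := by rw [hml (c x')]; simp only [mul_assoc]
        _ = c x' * (mu * lam * c y) := mul_assoc _ _ _
        _ = lam * (mu * lam) * (c y * c x') := by rw [e3]; simp only [mul_assoc]
        _ = _ := by rw [hml]; simp only [mul_assoc]
    exact mul_right_cancel (mul_left_cancel e4)
  have key : ∀ (steps : List (ℕ × ℕ × ℕ)) (K : List (ℕ × ℕ)), (∀ p ∈ K, P p.1 p.2 = P 1 3) →
      ∀ p ∈ steps.foldl addPair K, P p.1 p.2 = P 1 3 := by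
    intro steps
    induction steps with
    | nil => exact fun K h => h
    | cons s steps ih =>
      intro K hK
      rw [List.foldl_cons]
      refine ih _ fun p hp => ?_
      unfold addPair at hp
      split_ifs at hp with hcond
      · simp only [Bool.and_eq_true, Bool.not_eq_true', decide_eq_true_eq, List.contains_iff_mem] at hcond
        obtain ⟨⟨⟨⟨⟨⟨⟨hmem, ha⟩, h⟩, h'⟩, -⟩, hx⟩, hx'⟩, hy⟩ := hcond
        have e := (hstep s.1 s.2.1 s.2.2 hx hx' hy ha h h').trans (hK _ hmem)
        rcases List.mem_cons.1 hp with rfl | hp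
        · exact e
        · rcases List.mem_cons.1 hp with rfl | hp
          · exact (hsym _ _ hx' hy h').trans e
          · exact hK p hp
      · exact hK p hp
  refine ⟨P 1 3, hP1 1 3 (by decide) (by decide) (by decide), hP2 1 3 (by decide) (by decide) (by decide),
    fun x y hx hy hne h => ?_⟩
  have hc' := List.all_eq_true.1 (List.all_eq_true.1 pairs_cover x (mem_range_letter.2 hx)) y (mem_range_letter.2 hy)
  rw [h, show Nat.beq x y = false from Bool.eq_false_iff.2 fun e => hne (Nat.eq_of_beq_eq_true e), Bool.false_or,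
    Bool.false_or, List.contains_iff_mem] at hc'
  have e := key pairSteps [(1, 3), (3, 1)] (fun p hp => by
    simp only [List.mem_cons, List.not_mem_nil, or_false] at hp
    rcases hp with rfl | rfl
    · rfl
    · exact hsym 1 3 (by decide) (by decide) (by decide)) _ hc'
  rw [← e]
  exact hPe x y

end Ext

/-- The kernel of a stem extension of Ω(7, 3) is generated by one element of order dividing six. -/
theorem ker_cyclic7 {E : Type*} [Group E] (σ : E →* P7) (hσ : Cfsg.IsStemExtension σ) :
    ∃ t : E, t ^ 6 = 1 ∧ σ.ker = Subgroup.zpowers t := by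
  classical
  obtain ⟨hs, hk, hcom⟩ := hσ
  obtain ⟨c, z, hz1, hc, hb⟩ := exists_braided σ hs hk
  obtain ⟨u, hu1, hu2, hu⟩ := exists_sign σ hk hz1 hc hb
  have hnorm : ∀ s, Subgroup.zpowers s ≤ σ.ker → (Subgroup.zpowers s).Normal := fun s hle =>
    Subgroup.Normal.mk fun n hn y => by
      rw [cen σ hk (MonoidHom.mem_ker.1 (hle hn)) y, mul_inv_cancel_right]
      exact hn
  have hUk : Subgroup.zpowers u ≤ σ.ker := Subgroup.zpowers_le.2 (MonoidHom.mem_ker.2 hu1)
  haveI := hnorm u hUk
  set U := Subgroup.zpowers u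
  let π := QuotientGroup.mk' U
  have hπu : π u = 1 := (QuotientGroup.eq_one_iff u).2 (Subgroup.mem_zpowers u)
  have hπc : ∀ {x : E}, σ x = 1 → ∀ q, q * π x = π x * q := by
    intro x hx q
    induction q using QuotientGroup.induction_on with
    | _ q =>
      show π q * π x = π x * π q
      rw [← map_mul, ← map_mul, cen σ hk hx q]
  have hf : CoxOn (fun x => π (c x)) (π z) := by
    refine ⟨fun x hx => ?_, hπc hz1, fun x y hx hy h => ?_, fun x y hx hy h => ?_⟩
    · rw [← map_mul, (hc x hx).2]
    · simp only [← map_mul]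
      rw [hb x y hx hy h]
    · by_cases hne : x = y
      · rw [hne]
      rw [← map_mul, ← map_mul, hu x y hx hy hne h, map_mul, hπu, one_mul]
  have hσc : ∀ w : List ℕ, (∀ x ∈ w, Letter x) → σ (w.map c).prod = (w.map g7).prod := fun w hw => by
    rw [map_list_prod, List.map_map]
    exact congrArg List.prod (List.map_congr_left fun x hx => (hc x (hw x hx)).1)
  have hl7 : ∀ x ∈ seven7, Letter x := fun x hx => letters_ok.2.1 x (List.mem_append_left _ hx)
  have hls : ∀ x ∈ spider7, Letter x := fun x hx =>
    letters_ok.1 x (List.mem_append_left _ (List.mem_append_left _ hx))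
  set v := (seven7.map c).prod with hv
  have hv1 : σ v = 1 := by
    rw [hv, hσc _ hl7]
    exact relWord_one nodes7 (List.contains_iff_mem.1 extra_mem.2)
  have hπv : π v = (seven7.map fun x => π (c x)).prod := by
    rw [hv, map_list_prod, List.map_map]
    rfl
  have hvv : π v * π v = π z ^ 63 := by
    have h := prod_eq_pow hf square_red7 letters_ok.2.1 63 (by decide +kernel)
    rwa [List.map_append, List.prod_append, ← hπv] at h
  set ζ := v⁻¹ * z ^ 31 with hζdef
  have hζ1 : σ ζ = 1 := by rw [hζdef, map_mul, map_inv, map_pow, hv1, hz1, inv_one, one_pow, one_mul]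
  have hzv : Commute (π z) (π v) := hπc hv1 (π z)
  have hζζ : π ζ * π ζ = (π z)⁻¹ := by
    have e : π ζ = (π v)⁻¹ * π z ^ 31 := by rw [hζdef, map_mul, map_inv, map_pow]
    rw [e]
    calc (π v)⁻¹ * π z ^ 31 * ((π v)⁻¹ * π z ^ 31) = (π v)⁻¹ * ((π v)⁻¹ * π z ^ 31) * π z ^ 31 := by
          rw [mul_assoc, ← mul_assoc (π z ^ 31), ((hzv.inv_right).pow_left 31).eq]
          simp only [mul_assoc]
      _ = (π v * π v)⁻¹ * (π z ^ 31 * π z ^ 31) := by group
      _ = _ := by rw [hvv]; group
  set c' : ℕ → E := fun x => if Letter x then c x * ζ else 1 with hc'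
  have hc'σ : ∀ x, σ (c' x) = g7 x := fun x => by
    by_cases hx : Letter x
    · simp only [hc', if_pos hx, map_mul, hζ1, mul_one, (hc x hx).1]
    · simp only [hc', if_neg hx, map_one]
      exact (g7_outside hx).symm
  have hf' : CoxOn (fun x => π (c' x)) 1 := by
    have hm : ∀ x, Letter x → π (c' x) = π (c x) * π ζ := fun x hx => by
      simp only [hc', if_pos hx, map_mul]
    have hζc := hπc hζ1
    have move2 : ∀ a b : E ⧸ U, a * π ζ * (b * π ζ) = a * b * (π ζ * π ζ) := fun a b => by
      calc a * π ζ * (b * π ζ) = a * (π ζ * b) * π ζ := by group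
        _ = _ := by rw [← hζc]; group
    refine ⟨fun x hx => ?_, fun y => by simp, fun x y hx hy h => ?_, fun x y hx hy h => ?_⟩
    · rw [hm x hx, move2, hf.sq x hx, hζζ, mul_inv_cancel]
    · rw [hm x hx, hm y hy, move2, move2]
      have e := hf.braid x y hx hy h
      calc π (c x) * π ζ * (π (c y) * π (c x) * (π ζ * π ζ))
          = π (c x) * (π ζ * (π (c y) * π (c x))) * (π ζ * π ζ) := by group
        _ = π (c x) * (π (c y) * π (c x)) * π ζ * (π ζ * π ζ) := by rw [← hζc (π (c y) * π (c x))]; group
        _ = π (c y) * (π (c x) * π (c y)) * π ζ * (π ζ * π ζ) := by rw [e]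
        _ = π (c y) * (π ζ * (π (c x) * π (c y))) * (π ζ * π ζ) := by rw [← hζc (π (c x) * π (c y))]; group
        _ = _ := by group
    · rw [hm x hx, hm y hy, move2, move2, hf.comm x y hx hy h]
  have hπc' : ∀ w : List ℕ, π (w.map c').prod = (w.map fun x => π (c' x)).prod := fun w => by
    rw [map_list_prod, List.map_map]
    rfl
  have hseven : (seven7.map fun x => π (c' x)).prod = 1 := by
    rw [prod_mul_central (fun x => π (c x)) (π ζ) (hπc hζ1) (fun x => π (c' x)) seven7
      (fun x hx => by simp only [hc', if_pos (hl7 x hx), map_mul]), ← hπv,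
      show seven7.length = 2 * 31 + 1 by decide +kernel, pow_succ, pow_mul, pow_two, hζζ]
    rw [show π ζ = (π v)⁻¹ * π z ^ 31 by rw [hζdef, map_mul, map_inv, map_pow]]
    calc π v * ((π z)⁻¹ ^ 31 * ((π v)⁻¹ * π z ^ 31))
        = π v * ((π v)⁻¹ * (π z)⁻¹ ^ 31) * π z ^ 31 := by
          rw [← mul_assoc ((π z)⁻¹ ^ 31), ((hzv.inv_left).inv_right.pow_left 31).eq]
          simp only [mul_assoc]
      _ = 1 := by group
  set w := (spider7.map c').prod with hw
  have hw1 : σ w = 1 := by
    rw [hw, map_list_prod, List.map_map, show (σ ∘ c') = g7 from funext hc'σ]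
    exact relWord_one nodes7 (List.contains_iff_mem.1 extra_mem.1)
  have hw3 : π (w ^ 3) = 1 := by
    obtain ⟨-, k, -, h⟩ := reduce_on hf' _ certC [] (beq_iff_eq.1 cube_red7) letters_ok.1
    rw [one_pow, one_mul, List.map_nil, List.prod_nil] at h
    have r1 := reverse_of_coxOn hf' conC fun x hx => letters_ok.2.2 x (List.mem_append_left _ hx)
    have r2 := reverse_of_coxOn hf' conD fun x hx => letters_ok.2.2 x (List.mem_append_right _ hx)
    have hwc : ∀ y, y * π w * y⁻¹ = π w := fun y => by rw [hπc hw1, mul_inv_cancel_right]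
    simp only [List.map_append, List.prod_append, r1, r2, ← hπc' spider7, ← hw, hwc] at h
    rw [map_pow, pow_succ, pow_two]
    exact h
  have hu' : ∀ x ∈ U, x * x = 1 := fun x hx => by
    obtain ⟨k, rfl⟩ := Subgroup.mem_zpowers_iff.1 hx
    rw [← (Commute.refl u).mul_zpow, hu2, one_zpow]
  have hw3' : w ^ 3 ∈ U := (QuotientGroup.eq_one_iff _).1 hw3
  have hw6 : w ^ 6 = 1 := by rw [show (6 : ℕ) = 3 + 3 from rfl, pow_add]; exact hu' _ hw3'
  have huw : Commute u w := cen σ hk hw1 u
  set t := u * w ^ 4 with ht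
  have hu6 : u ^ 2 = 1 := by rw [pow_two]; exact hu2
  have ht3 : t ^ 3 = u := by
    rw [ht, (huw.pow_right 4).mul_pow, ← pow_mul, show 4 * 3 = 6 * 2 from rfl, pow_mul w, hw6, one_pow, mul_one,
      pow_succ, hu6, one_mul]
  have ht6 : t ^ 6 = 1 := by rw [show (6 : ℕ) = 3 * 2 from rfl, pow_mul, ht3, hu6]
  have ht4 : t ^ 4 = w ^ 4 := by
    rw [ht, (huw.pow_right 4).mul_pow, ← pow_mul w, show 4 * 4 = 6 * 2 + 4 from rfl, pow_add, pow_mul w, hw6,
      one_pow, one_mul, show (4 : ℕ) = 2 * 2 from rfl, pow_mul u, hu6, one_pow, one_mul]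
  have htu : u ∈ Subgroup.zpowers t := ht3 ▸ pow_mem (Subgroup.mem_zpowers t) 3
  have hUt : U ≤ Subgroup.zpowers t := Subgroup.zpowers_le.2 htu
  have htw : w ∈ Subgroup.zpowers t := by
    have h4 : w ^ 4 ∈ Subgroup.zpowers t := ht4 ▸ pow_mem (Subgroup.mem_zpowers t) 4
    have := mul_mem h4 (inv_mem (hUt hw3'))
    rwa [show w ^ 4 * (w ^ 3)⁻¹ = w by group] at this
  have htk : Subgroup.zpowers t ≤ σ.ker := Subgroup.zpowers_le.2 (MonoidHom.mem_ker.2 (by
    rw [ht, map_mul, map_pow, hu1, hw1, one_pow, one_mul]))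
  haveI := hnorm t htk
  set N := Subgroup.zpowers t
  let φ : E ⧸ U →* E ⧸ N := QuotientGroup.map U N (MonoidHom.id E) hUt
  let β : ℕ → E ⧸ N := fun x => QuotientGroup.mk (c' x)
  have hφ : ∀ l : List ℕ, (l.map β).prod = φ (l.map fun x => π (c' x)).prod := fun l => by
    rw [map_list_prod, List.map_map]
    rfl
  have hsq : ∀ x, β x * β x = 1 := fun x => by
    by_cases hx : Letter x
    · show φ (π (c' x)) * φ (π (c' x)) = 1
      rw [← map_mul, hf'.sq x hx, map_one]
    · show (QuotientGroup.mk (c' x) : E ⧸ N) * QuotientGroup.mk (c' x) = 1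
      simp [hc', hx]
  obtain ⟨s, hs'⟩ := hom_exists β hsq fun l hl => by
    have h := List.all_eq_true.1 rel_shape l hl
    have hb0 : β 0 = 1 := by simp [β, hc', Letter]
    rw [← prod_map_filter β hb0]
    simp only [Bool.or_eq_true, List.isEmpty_iff, beq_iff_eq, List.any_eq_true, Bool.and_eq_true] at h
    rcases h with ((h | h) | h) | ⟨x, hx, y, hy, h⟩
    · rw [h]; rfl
    · rw [h]
      have : (spider7.map β).prod = QuotientGroup.mk' N w := by
        rw [hw, map_list_prod, List.map_map]
        rfl
      rw [this]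
      exact (QuotientGroup.eq_one_iff _).2 htw
    · rw [h, hφ, hseven, map_one]
    · have hx' := mem_range_letter.1 hx
      have hy' := mem_range_letter.1 hy
      rcases h with (h | h) | ⟨h, hx0⟩ <;> rw [h]
      · unfold pairWd
        split_ifs with h1 h2
        · simp [hsq]
        · have e : β x * (β y * β x) = β y * (β x * β y) := by
            show φ (π (c' x)) * (φ (π (c' y)) * φ (π (c' x))) = φ (π (c' y)) * (φ (π (c' x)) * φ (π (c' y)))
            rw [← map_mul φ, ← map_mul φ, ← map_mul φ, ← map_mul φ, hf'.braid x y hx' hy' h2]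
          simp only [List.map_cons, List.map_nil, List.prod_cons, List.prod_nil, mul_one]
          calc β x * (β y * (β x * (β y * (β x * β y)))) = β x * (β y * β x) * (β y * (β x * β y)) := by group
            _ = β x * (β y * β x) * (β x * (β y * β x)) := by rw [← e]
            _ = 1 := by
              simp only [mul_assoc, ← mul_assoc (β x) (β x), ← mul_assoc (β y) (β y), hsq, one_mul, mul_one]
        · have e : β x * β y = β y * β x := by
            show φ (π (c' x)) * φ (π (c' y)) = φ (π (c' y)) * φ (π (c' x))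
            rw [← map_mul φ, ← map_mul φ, hf'.comm x y hx' hy' (Bool.eq_false_iff.2 h2)]
          simp only [List.map_cons, List.map_nil, List.prod_cons, List.prod_nil, mul_one]
          calc β x * (β y * (β x * β y)) = β x * β y * (β x * β y) := by group
            _ = β y * β x * (β x * β y) := by rw [e]
            _ = 1 := by simp only [mul_assoc, ← mul_assoc (β x) (β x), hsq, one_mul]
      · simp [hsq]
      · exact absurd hx0 (by have := hx'.1; simp only [Nat.beq_eq] at *; omega)
  let σ' : E ⧸ N →* P7 := QuotientGroup.lift N σ htk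
  have hsec : ∀ g, σ' (s g) = g := by
    have : σ'.comp s = MonoidHom.id P7 := PresentedGroup.ext fun y => by
      show σ' (s (PresentedGroup.of y)) = PresentedGroup.of y
      rw [hs']
      exact (hc'σ _).trans (gen_of nodes7 y)
    exact fun g => DFunLike.congr_fun this g
  have hcen : ∀ {p : E ⧸ N}, σ' p = 1 → ∀ q, q * p = p * q := by
    intro p hp q
    induction p using QuotientGroup.induction_on with
    | _ p => induction q using QuotientGroup.induction_on with
      | _ q => rw [← QuotientGroup.mk_mul, ← QuotientGroup.mk_mul, cen σ hk hp q]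
  have hle : commutator (E ⧸ N) ≤ s.range := by
    rw [commutator_def, Subgroup.commutator_le]
    intro p _ q _
    refine ⟨⁅σ' p, σ' q⁆, ?_⟩
    have hd : ∀ p, σ' ((s (σ' p))⁻¹ * p) = 1 := fun p => by rw [map_mul, map_inv, hsec, inv_mul_cancel]
    have key : ∀ a b p q : E ⧸ N, σ' p = 1 → σ' q = 1 → ⁅a * p, b * q⁆ = ⁅a, b⁆ := fun a b p q hp hq => by
      simp only [commutatorElement_def]
      calc a * p * (b * q) * (a * p)⁻¹ * (b * q)⁻¹ = a * (p * b) * q * p⁻¹ * a⁻¹ * q⁻¹ * b⁻¹ := by group
        _ = a * (b * p) * q * p⁻¹ * a⁻¹ * q⁻¹ * b⁻¹ := by rw [hcen hp b]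
        _ = a * b * (p * q) * p⁻¹ * a⁻¹ * q⁻¹ * b⁻¹ := by group
        _ = a * b * (q * p) * p⁻¹ * a⁻¹ * q⁻¹ * b⁻¹ := by rw [hcen hq p]
        _ = a * b * (q * a⁻¹) * q⁻¹ * b⁻¹ := by group
        _ = a * b * (a⁻¹ * q) * q⁻¹ * b⁻¹ := by rw [hcen hq a⁻¹]
        _ = _ := by group
    conv_rhs => rw [show p = s (σ' p) * ((s (σ' p))⁻¹ * p) by group, show q = s (σ' q) * ((s (σ' q))⁻¹ * q) by group,
      key _ _ _ _ (hd p) (hd q)]
    rw [map_commutatorElement]
  refine ⟨t, ht6, le_antisymm (fun x hx => ?_) htk⟩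
  have hm : QuotientGroup.mk' N x ∈ commutator (E ⧸ N) := by
    have h : (commutator E).map (QuotientGroup.mk' N) ≤ commutator (E ⧸ N) := by
      rw [commutator_def, Subgroup.map_commutator, commutator_def]
      exact Subgroup.commutator_mono le_top le_top
    exact h ⟨x, hcom hx, rfl⟩
  obtain ⟨g, hg⟩ := hle hm
  have hg1 : g = 1 := by
    rw [← hsec g, hg]
    exact MonoidHom.mem_ker.1 hx
  rw [hg1, map_one] at hg
  exact (QuotientGroup.eq_one_iff x).1 hg.symm

end CfsgLib.Recog.O73Mult
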