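import Mathlib.Data.Nat.Notation

set_option autoImplicit false

/-! Data for the Schur multiplier of Ω(7, 3) (owner: helper18). -/

namespace CfsgLib.Recog.O73Mult

/-- Steps joining the pairs of commuting letters: a pair, a letter braided with the first one. -/
def pairSteps : List (ℕ × ℕ × ℕ) :=
  [(3, 4, 1), (3, 7, 1), (1, 2, 7), (7, 8, 1), (4, 5, 1), (1, 2, 4), (1, 2, 5), (1, 2, 8),
   (5, 6, 1), (1, 2, 6), (2, 3, 5), (2, 3, 8), (3, 7, 5), (3, 4, 8), (2, 3, 6), (5, 4, 7),
   (5, 6, 7), (3, 4, 6), (4, 5, 8), (7, 8, 6)]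

/-- Lifts of the eight generators in the spin representation: rows as masks of entries 1 and 2. -/
def spinData : List (List (ℕ × ℕ)) := [
  [(128, 80), (0, 224), (0, 112), (16, 160), (4, 9), (12, 2), (3, 4), (2, 9)],
  [(193, 0), (130, 64), (20, 96), (56, 128), (0, 29), (4, 42), (2, 65), (0, 131)],
  [(0, 129), (0, 66), (32, 4), (16, 8), (24, 0), (36, 0), (64, 2), (128, 1)],
  [(144, 0), (96, 128), (64, 48), (128, 16), (1, 8), (10, 4), (7, 0), (9, 0)],
  [(16, 129), (160, 2), (112, 4), (128, 8), (25, 0), (34, 8), (68, 3), (136, 0)],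
  [(1, 128), (2, 192), (36, 80), (24, 128), (8, 17), (12, 34), (1, 66), (0, 129)],
  [(0, 192), (0, 128), (32, 80), (0, 160), (12, 1), (8, 2), (1, 2), (2, 0)],
  [(0, 145), (0, 34), (32, 68), (0, 136), (24, 1), (32, 2), (64, 6), (128, 8)]]

end CfsgLib.Recog.O73Mult
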