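import Cfsg.Agent.Lib.Recog.O73Mult.Data
import Cfsg.Agent.Lib.Recog.O73Mult.Cover
import Cfsg.Agent.Lib.ThreeTrans.O73.Enc

/-!
The double cover of Ω(7, 3) in the spin representation (owner: helper18).
-/

set_option autoImplicit false
set_option maxRecDepth 100000

namespace CfsgLib.Recog.O73Mult

open Cfsg CfsgLib.ThreeTrans.CosetIndex CfsgLib.Recog.SporBound
open CfsgLib.Recog.SporBound.Fi22Eight (edges7 extra7 P7)
open CfsgLib.ThreeTrans.O73 (Row get ok mulRow mulRow_spec)
open Cfsg.Agent.S1687 (gens)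
open scoped commutatorElement

/-- Eight by eight matrices over the field of three elements. -/
abbrev Mat8 : Type := Matrix (Fin 8) (Fin 8) (ZMod 3)

/-- The matrix of eight encoded rows. -/
def dec8 (A : List Row) : Mat8 := fun i j => get (A.getD i (0, 0)) j

/-- Eight valid rows. -/
def good8 (A : List Row) : Bool := A.length == 8 && A.all fun r => r.1 &&& r.2 == 0

/-- Product of encoded matrices. -/
def mul8 (A B : List Row) : List Row := A.map fun a => mulRow a B 0

theorem good8_spec {A : List Row} (h : good8 A = true) : A.length = 8 ∧ ∀ r ∈ A, ok r := by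
  simpa [good8, ok] using h

theorem good8_mul {A B : List Row} (hA : good8 A = true) (hB : good8 B = true) : good8 (mul8 A B) = true := by
  have h : (mul8 A B).length = 8 ∧ ∀ r ∈ mul8 A B, ok r := by
    refine ⟨by simp [mul8, (good8_spec hA).1], fun r hr => ?_⟩
    obtain ⟨a, ha, rfl⟩ := List.mem_map.1 hr
    exact (mulRow_spec ((good8_spec hA).2 a ha) B 0 (good8_spec hB).2).1
  simpa [good8, ok] using h

theorem dec8_mul {A B : List Row} (hA : good8 A = true) (hB : good8 B = true) :
    dec8 (mul8 A B) = dec8 A * dec8 B := by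
  obtain ⟨hAl, hAo⟩ := good8_spec hA
  obtain ⟨hBl, hBo⟩ := good8_spec hB
  ext i j
  have hi : (i : ℕ) < A.length := by rw [hAl]; exact i.2
  rw [Matrix.mul_apply]
  show get ((A.map fun a => mulRow a B 0).getD i (0, 0)) j = _
  rw [List.getD_eq_getElem _ _ (by simpa using hi), List.getElem_map,
    (mulRow_spec (hAo _ (List.getElem_mem hi)) B 0 hBo).2, hBl, ← Fin.sum_univ_eq_sum_range]
  simp [dec8, List.getElem?_eq_getElem hi]

/-- The identity. -/
def eye8 : List Row := (List.range 8).map fun i => (2 ^ i, 0)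

/-- Minus the identity. -/
def neg8 : List Row := (List.range 8).map fun i => (0, 2 ^ i)

/-- The matrix of a letter. -/
def smat (x : ℕ) : List Row := if Nat.beq x 0 then eye8 else spinData.getD (x - 1) eye8

/-- The matrix of a word. -/
def sWord (w : List ℕ) : List Row := w.foldr (fun x acc => mul8 (smat x) acc) eye8

theorem spin_check :
    (spinData.all good8 && good8 eye8) = true ∧
    ((List.range 9).all fun x => sWord [x, x] == eye8 || sWord [x, x] == neg8) = true ∧
    ((relWords edges7 extra7 gens).all fun w => sWord w == eye8 || sWord w == neg8) = true ∧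
    sWord [1, 3] = mul8 neg8 (sWord [3, 1]) ∧
    dec8 (sWord [1]) ≠ 1 ∧ dec8 (sWord [1]) ≠ -1 := by
  decide +kernel

theorem dec8_eye : dec8 eye8 = 1 := by decide +kernel

theorem dec8_neg : dec8 neg8 = -1 := by decide +kernel

theorem good8_smat (x : ℕ) : good8 (smat x) = true := by
  have h := spin_check.1
  rw [Bool.and_eq_true, List.all_eq_true] at h
  unfold smat
  split_ifs
  · exact h.2
  · rcases Nat.lt_or_ge (x - 1) spinData.length with hx | hx
    · rw [List.getD_eq_getElem _ _ hx]; exact h.1 _ (List.getElem_mem hx)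
    · rw [List.getD_eq_default _ _ hx]; exact h.2

theorem good8_sWord : ∀ w, good8 (sWord w) = true
  | [] => ((Bool.and_eq_true _ _).mp spin_check.1).2
  | x :: w => good8_mul (good8_smat x) (good8_sWord w)

theorem dec8_sWord_cons (x : ℕ) (w : List ℕ) : dec8 (sWord (x :: w)) = dec8 (smat x) * dec8 (sWord w) :=
  dec8_mul (good8_smat x) (good8_sWord w)

theorem smat_out {x : ℕ} (hx : ¬ (1 ≤ x ∧ x ≤ 8)) : smat x = eye8 := by
  unfold smat
  split_ifs with h
  · rfl
  · have : x ≠ 0 := fun e => h (by subst e; rfl)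
    exact List.getD_eq_default _ _ (by rw [show spinData.length = 8 from rfl]; omega)

theorem smat_unit (x : ℕ) : IsUnit (dec8 (smat x)) := by
  by_cases hx : x < 9
  · have h := List.all_eq_true.1 spin_check.2.1 x (List.mem_range.2 hx)
    have e : dec8 (sWord [x, x]) = dec8 (smat x) * dec8 (smat x) := by
      rw [dec8_sWord_cons, dec8_sWord_cons, show sWord [] = eye8 from rfl, dec8_eye, mul_one]
    have hu : IsUnit (dec8 (smat x) * dec8 (smat x)) := by
      rw [Bool.or_eq_true, beq_iff_eq, beq_iff_eq] at h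
      rcases h with h | h
      · rw [← e, h, dec8_eye]; exact isUnit_one
      · rw [← e, h, dec8_neg]; exact isUnit_one.neg
    exact isUnit_of_mul_isUnit_left hu
  · rw [smat_out (by omega), dec8_eye]; exact isUnit_one

/-- A lift of a generator. -/
noncomputable def su (x : ℕ) : Mat8ˣ := (smat_unit x).unit

theorem su_word : ∀ w : List ℕ, ((w.map su).prod : Mat8ˣ).val = dec8 (sWord w)
  | [] => dec8_eye.symm
  | x :: w => by
    rw [List.map_cons, List.prod_cons, Units.val_mul, su_word w, dec8_sWord_cons, su, IsUnit.unit_spec]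

/-- The double cover. -/
noncomputable def H2 : Subgroup Mat8ˣ := Subgroup.closure (Set.range su)

/-- A letter in the double cover. -/
noncomputable def s2 (x : ℕ) : H2 := ⟨su x, Subgroup.subset_closure ⟨x, rfl⟩⟩

theorem s2_word (w : List ℕ) : (((w.map s2).prod : H2) : Mat8ˣ).val = dec8 (sWord w) := by
  rw [Subgroup.val_list_prod, List.map_map]
  exact su_word w

theorem double_cover : ∃ (H : Type) (_ : Group H) (_ : Finite H) (σ : H →* P7),
    Cfsg.IsStemExtension σ ∧ IsCyclic σ.ker ∧ Nat.card σ.ker = 2 := by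
  set z : H2 := ⁅s2 1, s2 3⁆ with hzdef
  have e13 : ((s2 1 * s2 3 : H2) : Mat8ˣ).val = -((s2 3 * s2 1 : H2) : Mat8ˣ).val := by
    have a := s2_word [1, 3]
    have b := s2_word [3, 1]
    rw [List.map_cons, List.map_cons, List.map_nil, List.prod_cons, List.prod_cons, List.prod_nil, mul_one] at a b
    rw [a, b, spin_check.2.2.2.1, dec8_mul (by decide +kernel) (good8_sWord _), dec8_neg, neg_one_mul]
  have hz : ((z : H2) : Mat8ˣ).val = -1 := by
    have e : z * (s2 3 * s2 1) = s2 1 * s2 3 := by
      rw [hzdef, commutatorElement_def]; group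
    have := congrArg (fun g : H2 => ((g : Mat8ˣ) : Mat8)) e
    simp only [e13] at this
    rw [Subgroup.coe_mul, Units.val_mul, ← neg_one_mul ((s2 3 * s2 1 : H2) : Mat8ˣ).val] at this
    exact (Units.isUnit ((s2 3 * s2 1 : H2) : Mat8ˣ)).mul_right_cancel this
  have hval : ∀ {a b : H2}, ((a : Mat8ˣ) : Mat8) = ((b : Mat8ˣ) : Mat8) → a = b := fun h =>
    Subtype.ext (Units.ext h)
  have hzz : z * z = 1 := hval (by rw [Subgroup.coe_mul, Units.val_mul, hz, neg_mul_neg, one_mul]; rfl)
  have hzc : ∀ g : H2, g * z = z * g := fun g => hval (by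
    simp only [Subgroup.coe_mul, Units.val_mul, hz, mul_neg, neg_mul, mul_one, one_mul])
  have hsign : ∀ w, (sWord w == eye8 || sWord w == neg8) = true → (w.map s2).prod ∈ Subgroup.zpowers z := by
    intro w h
    rw [Bool.or_eq_true, beq_iff_eq, beq_iff_eq] at h
    rcases h with h | h
    · rw [show (w.map s2).prod = 1 from hval (by rw [s2_word, h, dec8_eye]; rfl)]
      exact one_mem _
    · rw [show (w.map s2).prod = z from hval (by rw [s2_word, h, dec8_neg, hz])]
      exact Subgroup.mem_zpowers z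
  have h0 : ∀ x, ¬ (1 ≤ x ∧ x ≤ 8) → s2 x = 1 := fun x hx => hval (by
    show (su x).val = 1
    rw [su, IsUnit.unit_spec, smat_out hx, dec8_eye])
  have hgen : Subgroup.closure (Set.range s2) = ⊤ := by
    rw [eq_top_iff, ← Subgroup.map_le_map_iff_of_injective H2.subtype_injective, MonoidHom.map_closure,
      ← MonoidHom.range_eq_map, Subgroup.range_subtype, ← Set.range_comp]
    exact le_rfl
  have hsq : ∀ x, s2 x * s2 x ∈ Subgroup.zpowers z := fun x => by
    by_cases hx : x < 9
    · simpa using hsign [x, x] (List.all_eq_true.1 spin_check.2.1 x (List.mem_range.2 hx))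
    · rw [h0 x (by omega), one_mul]; exact one_mem _
  have hne : s2 1 ∉ Subgroup.zpowers z := fun h => by
    obtain ⟨k, hk⟩ := Subgroup.mem_zpowers_iff.1 h
    have hd : ((s2 1 : H2) : Mat8ˣ).val = dec8 (sWord [1]) := by simpa using s2_word [1]
    have hz2 : z ^ (2 : ℤ) = 1 := by rw [zpow_two]; exact hzz
    rcases Int.even_or_odd k with ⟨m, rfl⟩ | ⟨m, rfl⟩
    · rw [← two_mul, zpow_mul, hz2, one_zpow] at hk
      exact spin_check.2.2.2.2.1 (by rw [← hd, ← hk]; rfl)
    · rw [zpow_add, zpow_mul, hz2, one_zpow, one_mul, zpow_one] at hk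
      exact spin_check.2.2.2.2.2 (by rw [← hd, ← hk, hz])
  obtain ⟨σ, hσ, hker⟩ := exists_stem s2 z h0 hgen (fun x => hzc (s2 x))
    (Subgroup.commutator_mem_commutator (Subgroup.mem_top _) (Subgroup.mem_top _)) hsq
    (fun w hw => hsign w (List.all_eq_true.1 spin_check.2.2.1 w hw)) hne
  refine ⟨H2, inferInstance, inferInstance, σ, hσ, by rw [hker]; infer_instance, ?_⟩
  haveI : Fact (Nat.Prime 2) := ⟨Nat.prime_two⟩
  rw [hker, Nat.card_zpowers, orderOf_eq_prime (by rw [pow_two]; exact hzz)]
  intro e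
  have h' := congrArg (fun g : H2 => ((g : Mat8ˣ) : Mat8) 0 0) e
  simp only [hz] at h'
  revert h'
  show ¬ ((-1 : Mat8) 0 0 = (1 : Mat8) 0 0)
  decide

end CfsgLib.Recog.O73Mult
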