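import Cfsg.Agent.Lib.Recog.O73Mult.Bound
import Cfsg.Agent.Lib.Recog.FiTwoMult.Cover3

/-!
The triple cover of Ω(7, 3) inside the triple cover of Fi22 (owner: helper18).
-/

set_option autoImplicit false
set_option maxRecDepth 100000

namespace CfsgLib.Recog.O73Mult

open Cfsg CfsgLib.ThreeTrans.CosetIndex CfsgLib.Recog.SporBound
open CfsgLib.Recog.SporBound.Fi22Eight (edges7 extra7 P7)
open CfsgLib.Recog.FiTwoMult (G3 g3 g3_sq g3_word g3_word_one zeta zeta_pow zeta_ne zeta_central pWord peq pOne
  adj D D_injective D_one unit_word)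
open Cfsg.Agent.S1687 (gens)

/-- The triple cover. -/
noncomputable def H3 : Subgroup G3 := Subgroup.closure (g3 '' {x | Letter x})

/-- A letter in the triple cover. -/
noncomputable def s3 (x : ℕ) : H3 := if h : Letter x then ⟨g3 x, Subgroup.subset_closure ⟨x, h, rfl⟩⟩ else 1

theorem s3_val {x : ℕ} (hx : Letter x) : ((s3 x : H3) : G3) = g3 x := by
  rw [s3, dif_pos hx]

theorem s3_word : ∀ w : List ℕ, (∀ x ∈ w, Letter x) → (((w.map s3).prod : H3) : G3) = (w.map g3).prod
  | [], _ => rfl
  | x :: w, h => by
    rw [List.map_cons, List.prod_cons, Subgroup.coe_mul, s3_val (h x (by simp)),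
      s3_word w fun y hy => h y (List.mem_cons_of_mem _ hy), List.map_cons, List.prod_cons]

theorem three_check :
    ((relWords edges7 extra7 gens).all fun w => (fun v : List ℕ => (v.all fun x => decide (Letter x)) &&
      (v == spider7 || peq (pWord v) pOne)) (w.filter fun x => x != 0)) = true ∧
    ((List.range' 1 8).all fun x => (List.range' 1 8).all fun y =>
      !adj x y || peq (pWord [x, y, x, y, x, y]) pOne) = true ∧
    (pWord [1]).1 < 2 ^ 784 ∧ (pWord [1]).2 < 2 ^ 784 ∧ peq (pWord [1]) pOne = false ∧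
    (∀ x ∈ spider7, Letter x) := by
  decide +kernel

theorem triple_cover : ∃ (H : Type) (_ : Group H) (_ : Finite H) (σ : H →* P7),
    Cfsg.IsStemExtension σ ∧ IsCyclic σ.ker ∧ Nat.card σ.ker = 3 := by
  obtain ⟨hrels, hbraid, hb1, hb2, hne1, hls⟩ := three_check
  set z : H3 := (spider7.map s3).prod with hzdef
  have hzv : (z : G3) = zeta := s3_word _ hls
  have h0 : ∀ x, ¬ (1 ≤ x ∧ x ≤ 8) → s3 x = 1 := fun x hx => dif_neg hx
  have hsq1 : ∀ x, s3 x * s3 x = 1 := fun x => by
    by_cases hx : Letter x
    · exact Subtype.ext (by rw [Subgroup.coe_mul, s3_val hx]; exact g3_sq x)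
    · rw [h0 x hx, one_mul]
  have hgen : Subgroup.closure (Set.range s3) = ⊤ := by
    rw [eq_top_iff, ← Subgroup.map_le_map_iff_of_injective H3.subtype_injective, MonoidHom.map_closure,
      ← MonoidHom.range_eq_map, Subgroup.range_subtype]
    refine (Subgroup.closure_le _).2 ?_
    rintro _ ⟨x, hx, rfl⟩
    exact Subgroup.subset_closure ⟨s3 x, ⟨x, rfl⟩, s3_val hx⟩
  have hz : ∀ x, s3 x * z = z * s3 x := fun x => Subtype.ext (by
    rw [Subgroup.coe_mul, Subgroup.coe_mul, hzv]
    exact Subgroup.mem_center_iff.1 zeta_central _)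
  let q : H3 →* Abelianization H3 := Abelianization.of
  have hadj : ∀ x y, Letter x → Letter y → adj x y = true → q (s3 x) = q (s3 y) := fun x y hx hy h => by
    have e := List.all_eq_true.1 (List.all_eq_true.1 hbraid x (mem_range_letter.2 hx)) y (mem_range_letter.2 hy)
    rw [h, Bool.not_true, Bool.false_or] at e
    have e2 : ([x, y, x, y, x, y].map s3).prod = 1 := Subtype.ext (by
      rw [s3_word _ (by simp [hx, hy])]
      exact g3_word_one e)
    have e3 := congrArg q e2
    simp only [List.map_cons, List.map_nil, List.prod_cons, List.prod_nil, mul_one, map_mul, map_one] at e3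
    have sx : q (s3 x) * q (s3 x) = 1 := by rw [← map_mul, hsq1, map_one]
    have sy : q (s3 y) * q (s3 y) = 1 := by rw [← map_mul, hsq1, map_one]
    generalize q (s3 x) = a at e3 sx ⊢
    generalize q (s3 y) = b at e3 sy ⊢
    have e4 : a * a * (b * b) * (a * b) = 1 := by rw [← e3]; simp only [mul_assoc, mul_comm, mul_left_comm]
    rw [sx, sy, one_mul, one_mul] at e4
    calc a = a * (b * b) := by rw [sy, mul_one]
      _ = b := by rw [← mul_assoc, e4, one_mul]
  have hall : ∀ x, Letter x → q (s3 x) = q (s3 3) := by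
    intro x hx
    have L : ∀ k, 1 ≤ k → k ≤ 8 → Letter k := fun k a b => ⟨a, b⟩
    have a12 := hadj 1 2 (by decide) (by decide) (by decide)
    have a23 := hadj 2 3 (by decide) (by decide) (by decide)
    have a34 := hadj 3 4 (by decide) (by decide) (by decide)
    have a45 := hadj 4 5 (by decide) (by decide) (by decide)
    have a56 := hadj 5 6 (by decide) (by decide) (by decide)
    have a37 := hadj 3 7 (by decide) (by decide) (by decide)
    have a78 := hadj 7 8 (by decide) (by decide) (by decide)
    obtain ⟨k1, k8⟩ := hx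
    interval_cases x
    exacts [a12.trans a23, a23, rfl, a34.symm, a45.symm.trans a34.symm,
      a56.symm.trans (a45.symm.trans a34.symm), a37.symm, a78.symm.trans a37.symm]
  have hqz : q z = 1 := by
    rw [hzdef, map_list_prod, List.map_map,
      List.map_congr_left (f := ⇑q ∘ s3) (g := fun _ => q (s3 3)) (fun x hx => hall x (hls x hx)), List.map_const',
      List.prod_replicate, show spider7.length = 2 * 45 by decide +kernel, pow_mul, pow_two, ← map_mul, hsq1,
      map_one, one_pow]
  have hzc : z ∈ commutator H3 := (QuotientGroup.eq_one_iff z).1 hqz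
  have hz3 : z ^ 3 = 1 := Subtype.ext (by rw [SubgroupClass.coe_pow, hzv]; exact zeta_pow)
  have hne : s3 1 ∉ Subgroup.zpowers z := fun h => by
    obtain ⟨k, hk⟩ := Subgroup.mem_zpowers_iff.1 h
    have h3 : s3 1 ^ 3 = 1 := by
      rw [← hk, ← zpow_natCast, ← zpow_mul, mul_comm, zpow_mul, zpow_natCast, hz3, one_zpow]
    rw [pow_succ, pow_two, hsq1, one_mul] at h3
    have h' : (([1].map g3).prod : G3) = 1 := by
      rw [← s3_word [1] (by decide)]
      simp [h3]
    have e : D (pWord [1]) = D pOne := by
      rw [D_one, ← unit_word, ← g3_word, h']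
      rfl
    rw [D_injective hb1 hb2 CfsgLib.Sporadic.RuMod.one_lt (Nat.two_pow_pos _) e] at hne1
    simp [peq, pOne] at hne1
  obtain ⟨σ, hσ, hker⟩ := exists_stem s3 z h0 hgen hz hzc
    (fun x => by rw [hsq1]; exact one_mem _)
    (fun w hw => by
      have h := List.all_eq_true.1 hrels w hw
      simp only [Bool.and_eq_true, List.all_eq_true, decide_eq_true_eq, Bool.or_eq_true, beq_iff_eq] at h
      rw [← prod_map_filter s3 (h0 0 (by omega))]
      rcases h.2 with h' | h'
      · rw [h']; exact Subgroup.mem_zpowers z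
      · rw [show ((w.filter fun x => x != 0).map s3).prod = 1 from
          Subtype.ext (by rw [s3_word _ h.1]; exact g3_word_one h')]
        exact one_mem _) hne
  refine ⟨H3, inferInstance, inferInstance, σ, hσ, by rw [hker]; infer_instance, ?_⟩
  haveI : Fact (Nat.Prime 3) := ⟨Nat.prime_three⟩
  rw [hker, Nat.card_zpowers, orderOf_eq_prime hz3]
  intro e
  exact zeta_ne (by rw [← hzv, e]; rfl)

end CfsgLib.Recog.O73Mult
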