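import Cfsg.Agent.Lib.Recog.O73Mult.Bound
import Cfsg.Agent.Lib.Recog.O73Mult.SpinCover
import Cfsg.Agent.Lib.Recog.O73Mult.ThreeCover
import Cfsg.Agent.Lib.Schur.StemProduct
import Cfsg.Agent.Lib.Schur.Multiplier
import Cfsg.Agent.Lib.Classical.RingTransfer
import Mathlib.GroupTheory.SpecificGroups.Cyclic

/-!
The Schur multiplier of Ω(7, 3) has order 6 (owner: helper18).
-/

set_option autoImplicit false

namespace CfsgLib.Recog.O73Mult

open Cfsg
open CfsgLib.Recog.SporBound.Fi22Eight (P7)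

universe u

theorem pomega_equiv {F : Type u} [Field F] [Fintype F] (hF : Fintype.card F = 3) :
    Nonempty (Cfsg.POmega F (Cfsg.quadFormOdd 3 F) ≃* P7) := by
  have : Fact (Nat.Prime 3) := ⟨Nat.prime_three⟩
  obtain ⟨e⟩ := CfsgLib.Classical.exists_zmod_equiv F (p := 3) hF
  obtain ⟨e7⟩ := equiv_pomega
  have hq : ∀ v : Unit ⊕ (Fin 3 ⊕ Fin 3) → ZMod 3,
      Cfsg.quadFormOdd 3 F (e ∘ v) = e (Cfsg.quadFormOdd 3 (ZMod 3) v) := fun v => by
    simp [Cfsg.quadFormOdd, map_sum, map_mul, map_pow, map_add]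
  let G := CfsgLib.Classical.isometryGroupMap e hq
  have hmap : (commutator (Cfsg.isometryGroup (ZMod 3) (Cfsg.quadFormOdd 3 (ZMod 3)))).map G.toMonoidHom =
      commutator (Cfsg.isometryGroup F (Cfsg.quadFormOdd 3 F)) := by
    rw [commutator_def, commutator_def, Subgroup.map_commutator,
      Subgroup.map_top_of_surjective _ G.surjective]
  let ω : Cfsg.Omega (ZMod 3) (Cfsg.quadFormOdd 3 (ZMod 3)) ≃* Cfsg.Omega F (Cfsg.quadFormOdd 3 F) :=
    (G.subgroupMap _).trans (MulEquiv.subgroupCongr hmap)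
  have hc : (Subgroup.center (Cfsg.Omega (ZMod 3) (Cfsg.quadFormOdd 3 (ZMod 3)))).map ω.toMonoidHom =
      Subgroup.center (Cfsg.Omega F (Cfsg.quadFormOdd 3 F)) := by
    ext x
    constructor
    · rintro ⟨y, hy, rfl⟩
      exact Subgroup.mem_center_iff.2 fun z => by
        obtain ⟨w, rfl⟩ := ω.surjective z
        show ω w * ω y = ω y * ω w
        rw [← map_mul, ← map_mul, Subgroup.mem_center_iff.1 hy w]
    · intro hx
      obtain ⟨y, rfl⟩ := ω.surjective x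
      exact ⟨y, Subgroup.mem_center_iff.2 fun w => ω.injective (by
        rw [map_mul, map_mul]; exact Subgroup.mem_center_iff.1 hx (ω w)), rfl⟩
  exact ⟨(QuotientGroup.congr _ _ ω hc).symm.trans e7.symm⟩

theorem multiplier_pomega {F : Type u} [Field F] [Fintype F] (hF : Fintype.card F = 3) :
    Cfsg.HasCyclicSchurMultiplier (Cfsg.POmega F (Cfsg.quadFormOdd 3 F)) 6 := by
  obtain ⟨e⟩ := pomega_equiv hF
  haveI := finite_P7
  haveI : Finite (Cfsg.POmega F (Cfsg.quadFormOdd 3 F)) := Finite.of_equiv _ e.symm.toEquiv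
  obtain ⟨H₂, _, _, σ₂, hs₂, hc₂, hn₂⟩ := double_cover
  obtain ⟨H₃, _, _, σ₃, hs₃, hc₃, hn₃⟩ := triple_cover
  have hcop : Nat.Coprime (Nat.card σ₂.ker) (Nat.card σ₃.ker) := by rw [hn₂, hn₃]; decide
  let τ₀ := CfsgLib.Schur.fibreMap σ₂ σ₃
  obtain ⟨t1, t2, t3⟩ := CfsgLib.Schur.isStemExtension_fibreProduct σ₂ σ₃ hs₂ hs₃ hcop
  let τ : CfsgLib.Schur.fibreProduct σ₂ σ₃ →* Cfsg.POmega F (Cfsg.quadFormOdd 3 F) := e.symm.toMonoidHom.comp τ₀
  have hk : τ.ker = τ₀.ker := by ext; simp [τ]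
  haveI : IsCyclic (σ₂.ker × σ₃.ker) := Group.isCyclic_prod_iff.2 ⟨hc₂, hc₃, hcop⟩
  have hcard : Nat.card (σ₂.ker × σ₃.ker) = Nat.card (Multiplicative (ZMod 6)) := by
    rw [Nat.card_prod, hn₂, hn₃]; simp
  refine CfsgLib.Schur.hasSchurMultiplier_of_witness τ
    ⟨e.symm.surjective.comp t1, hk.le.trans t2, hk.le.trans t3⟩
    ((MulEquiv.subgroupCongr hk).trans ((CfsgLib.Schur.fibreKerEquiv σ₂ σ₃).trans
      (mulEquivOfCyclicCardEq hcard))) fun Γ _ _ σ hσ => ?_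
  let σ' : Γ →* P7 := e.toMonoidHom.comp σ
  have hk' : σ'.ker = σ.ker := by ext; simp [σ']
  obtain ⟨t, ht, hker⟩ := ker_cyclic7 σ'
    ⟨e.surjective.comp hσ.1, hk'.le.trans hσ.2.1, hk'.le.trans hσ.2.2⟩
  rw [← hk', hker, Nat.card_zpowers, Nat.card_congr Multiplicative.toAdd, Nat.card_zmod]
  exact Nat.le_of_dvd (by decide) (orderOf_dvd_of_pow_eq_one ht)

end CfsgLib.Recog.O73Mult
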